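import Groth.Agent.FBaseLib.Product
import Groth.Agent.GrpSchLib.GeomRedDense
import Groth.Agent.H23.RedSub
import Groth.Prelude.Def_FDesc

/-!
# Pull back of reduced closed subschemes along field extensions
-/

set_option autoImplicit false

universe u

open CategoryTheory AlgebraicGeometry Limits TopologicalSpace

namespace Groth.Agent.RedComap5

variable {X Y : Scheme.{u}}

/-- An ideal sheaf with reduced subscheme is the vanishing ideal of its support. -/
theorem eq_vanishingIdeal (I : X.IdealSheafData) [IsReduced I.subscheme] :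
    I = Scheme.IdealSheafData.vanishingIdeal I.support := by
  rw [Scheme.IdealSheafData.vanishingIdeal_support]
  refine le_antisymm I.le_radical fun W s hs => ?_
  rw [Scheme.IdealSheafData.radical_ideal] at hs
  obtain ⟨n, hn⟩ := hs
  rw [← I.ker_subschemeι_app W, RingHom.mem_ker] at hn ⊢
  rw [map_pow] at hn
  exact _root_.IsReduced.eq_zero _ ⟨n, hn⟩

theorem comap_vanishingIdeal (π : X ⟶ Y) (C : Closeds ↥Y)
    (h : IsReduced (pullback π (Scheme.IdealSheafData.vanishingIdeal C).subschemeι))
    (D : Closeds ↥X) (hD : (D : Set ↥X) = π ⁻¹' (C : Set ↥Y)) :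
    (Scheme.IdealSheafData.vanishingIdeal C).comap π = Scheme.IdealSheafData.vanishingIdeal D := by
  haveI : IsReduced ((Scheme.IdealSheafData.vanishingIdeal C).comap π).subscheme :=
    isReduced_of_isOpenImmersion ((Scheme.IdealSheafData.vanishingIdeal C).comapIso π).hom
  rw [eq_vanishingIdeal ((Scheme.IdealSheafData.vanishingIdeal C).comap π)]
  congr 1
  refine Closeds.ext ?_
  rw [Scheme.IdealSheafData.support_comap, Closeds.coe_preimage, hD,
    Scheme.IdealSheafData.coe_support_vanishingIdeal]

variable {k : Type u} [Field k] (K : Type u) [Field K] [Algebra k K]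

theorem isReduced_pullback_subscheme (p : Y ⟶ Spec (CommRingCat.of k)) (I : Y.IdealSheafData)
    (h : IsReduced (pullback (I.subschemeι ≫ p) (Spec.map (CommRingCat.ofHom (algebraMap k K))))) :
    IsReduced (pullback (pullback.fst p (Spec.map (CommRingCat.ofHom (algebraMap k K)))) I.subschemeι) :=
  isReduced_of_isOpenImmersion
    ((pullbackSymmetry _ _) ≪≫ pullbackRightPullbackFstIso p _ I.subschemeι).hom

/-- A reduced scheme covered densely by geometrically reduced schemes. -/
theorem geometricallyReduced_of_dense [IsReduced X] (p : X ⟶ Spec (CommRingCat.of k)) {A : Type u}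
    (W : A → Scheme.{u}) (v : ∀ a, W a ⟶ X)
    (hred : ∀ a, GeometricallyReduced (v a ≫ p)) (hd : Dense (⋃ a, Set.range (v a))) :
    GeometricallyReduced p := by
  letI : X.Over (Spec (CommRingCat.of k)) := ⟨p⟩
  letI : ∀ a, (W a).Over (Spec (CommRingCat.of k)) := fun a => ⟨v a ≫ p⟩
  exact GrpSchLib.GeomRedDense.geometricallyReduced_of_dense W v (fun a => rfl) hred hd

theorem geometricallyReduced_of_isGeomReducedAt (p : X ⟶ Spec (CommRingCat.of k))
    (h : ∀ x : X, FBase.IsGeomReducedAt p x) : GeometricallyReduced p := by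
  refine ⟨geometrically_iff_of_isClosedUnderIsomorphisms.mpr fun L _ y => ?_⟩
  obtain ⟨φ, rfl⟩ := Spec.map_surjective y
  letI : Algebra k L := φ.hom.toAlgebra
  exact @isReduced_of_isReduced_stalk _ fun z => h _ L z rfl

theorem isReduced_of_geometricallyReduced (p : X ⟶ Spec (CommRingCat.of k)) [GeometricallyReduced p] :
    IsReduced X := by
  haveI : IsReduced (pullback p (𝟙 (Spec (CommRingCat.of k)))) :=
    pullback_of_geometrically (GeometricallyReduced.geometrically_isReduced (f := p)) _ _
  exact isReduced_of_isOpenImmersion (inv (pullback.fst p (𝟙 (Spec (CommRingCat.of k)))))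

theorem exists_lift (f : X ⟶ Y) [IsReduced X] (C : Closeds ↥Y) (hC : Set.range f ⊆ C) :
    ∃ v : X ⟶ (Scheme.IdealSheafData.vanishingIdeal C).subscheme,
      v ≫ (Scheme.IdealSheafData.vanishingIdeal C).subschemeι = f := by
  have h0 : (Scheme.IdealSheafData.vanishingIdeal C).comap f = ⊥ := by
    refine Scheme.IdealSheafData.support_eq_top_iff.mp (Closeds.ext ?_)
    rw [Scheme.IdealSheafData.support_comap, Closeds.coe_preimage,
      Scheme.IdealSheafData.coe_support_vanishingIdeal, Closeds.coe_top]
    exact Set.eq_univ_of_forall fun x => hC ⟨x, rfl⟩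
  haveI : IsIso ((Scheme.IdealSheafData.vanishingIdeal C).comap f).subschemeι :=
    (Scheme.isIso_subschemeι_iff_eq_bot _).mpr h0
  refine ⟨inv ((Scheme.IdealSheafData.vanishingIdeal C).comap f).subschemeι ≫
    ((Scheme.IdealSheafData.vanishingIdeal C).comapIso f).hom ≫ pullback.snd _ _, ?_⟩
  rw [Category.assoc, Category.assoc, ← pullback.condition, Scheme.IdealSheafData.comapIso_hom_fst_assoc,
    IsIso.inv_hom_id_assoc]

theorem geometricallyReduced_closure (p : Y ⟶ Spec (CommRingCat.of k)) {ι : Type u} (Z : ι → Scheme.{u})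
    (f : ∀ i, Z i ⟶ Y) (hred : ∀ i, GeometricallyReduced (f i ≫ p)) :
    GeometricallyReduced ((Scheme.IdealSheafData.vanishingIdeal
      (Closeds.closure (⋃ i, Set.range (f i)))).subschemeι ≫ p) := by
  let C : Closeds ↥Y := Closeds.closure (⋃ i, Set.range (f i))
  let I := Scheme.IdealSheafData.vanishingIdeal C
  haveI : IsReduced I.subscheme := H23.RedSub.isReduced_vanishingIdeal C
  have hl : ∀ i, ∃ v : Z i ⟶ I.subscheme, v ≫ I.subschemeι = f i := fun i => by
    haveI := hred i
    haveI := isReduced_of_geometricallyReduced (f i ≫ p)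
    exact exists_lift (f i) C ((Set.subset_iUnion (fun i => Set.range (f i)) i).trans subset_closure)
  choose v hv using hl
  refine geometricallyReduced_of_dense (I.subschemeι ≫ p) Z v (fun i => ?_) ?_
  · rw [← Category.assoc, hv]; exact hred i
  · rw [I.subschemeι.isEmbedding.isInducing.dense_iff]
    intro x
    have h1 : I.subschemeι x ∈ (C : Set ↥Y) := by
      have : I.subschemeι x ∈ Set.range I.subschemeι := ⟨x, rfl⟩
      rwa [H23.RedSub.range_vanishingIdeal] at this
    have h2 : (I.subschemeι '' ⋃ i, Set.range (v i)) = ⋃ i, Set.range (f i) := by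
      rw [Set.image_iUnion]
      refine Set.iUnion_congr fun i => ?_
      rw [← Set.range_comp, ← hv i]
      rfl
    rw [h2]
    exact h1

end Groth.Agent.RedComap5
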